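import Cfsg.Agent.Spor.HNP.K.D0

set_option autoImplicit false
set_option maxRecDepth 100000000
set_option Elab.async false

namespace Cfsg.Agent.Spor.HNP.K

theorem ff3 : U.fixFrom 11 1408 1 = true := by decide +kernel

theorem ff4 : U.fixFrom 11 1408 3 = true := by decide +kernel

theorem ff5 : U.fixFrom 11 1408 5 = true := by decide +kernel

theorem gr6 : sub (ones 1408) (U.growI W1 [0, 2, 1, 0, 0, 1, 2, 1, 0, 0, 1, 2, 1, 0, 0, 1, 2, 1, 0, 0, 1, 2] (Nat.shiftLeft 1 0)) = true := by decide +kernel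

theorem fx9 : U.closedW W8 (Nat.shiftLeft 1 0) = true := by decide +kernel

end Cfsg.Agent.Spor.HNP.K
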