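import Cfsg.Agent.Spor.Prim
import Cfsg.Agent.Spor.HNP.Main
import Cfsg.Agent.Spor.HNP.K.C0
import Cfsg.Agent.Spor.PX11
import Cfsg.Agent.Spor.HNP.Grp

set_option autoImplicit false
set_option maxRecDepth 100000000
set_option Elab.async false

namespace Cfsg.Agent.Spor.HNP.K

theorem hU : U.Ok 11 := U.ok_of 11 (show AllP (fun n => Net.okb 11 n = true) [n0, n1, n2] from AllP.cons ok0 (AllP.cons ok1 (AllP.cons ok2 (AllP.nil))))

theorem hfP : ∀ j < 3, U.fP [1, 3, 5] j = fP j := by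
  intro j hj
  interval_cases j <;> rfl
theorem eG : gsub 3 fP = U.lsub W1 := (gsub_congr hfP).symm.trans (lsub_eq_gsub U [1, 3, 5])
theorem upz1 : ev (atm 3 fP) [0] = U.τ 1 := pz1
theorem upz3 : ev (atm 3 fP) [2] = U.τ 3 := pz2
theorem upz5 : ev (atm 3 fP) [4] = U.τ 5 := pz3
theorem eH : wsub 3 fP BW = U.lsub W2 :=
  lsub_eq_of_all₂ (show List.Forall₂ _ [] [] from List.Forall₂.nil)
theorem hfix : gsub 3 fP ≤ FixFrom 1408 := (gsub_congr hfP).symm.le.trans (hU.gsub_fix (gs := [1, 3, 5]) (AllP.cons ff3 (AllP.cons ff4 (AllP.cons ff5 (AllP.nil)))))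
theorem reach7 : Reach (U.lsub W1) 0 (ones 1408) := (Reach.grow hU (Reach.base _ 0) gr6)
theorem link : U.Link P.subtype (atm 3 p) (2 * 3) :=
  Tab.Link.of (fun j hj => (lift_gsub fP j hj).trans (by interval_cases j <;> rfl)) (by decide +kernel)
theorem core : (wsub 3 p [[3, 0, 3, 0, 2, 0, 2, 2, 0, 3, 3, 0, 3, 0, 2, 2, 1, 3, 1, 3], [3, 0, 3, 3, 0, 2, 2, 0, 3, 3, 0, 3, 0, 3, 3, 1, 2, 2]]).normalCore = ⊥ :=
  core_of_trans hfix (eG ▸ reach7) (link.fix hU (W := W8) (by decide +kernel) (hU.fixes fx9))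

end Cfsg.Agent.Spor.HNP.K
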