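import Cfsg.Agent.Spor.Chk2
import Cfsg.Agent.Spor.HNP.D0

set_option autoImplicit false
set_option maxRecDepth 100000000
set_option Elab.async false
noncomputable section

namespace Cfsg.Agent.Spor.HNP.K

def W1 : List (List Nat) := [[1], [3], [5]]

def W2 : List (List Nat) := []

def W8 : List (List Nat) := [[4, 2, 4, 2, 3, 3, 1, 4, 1, 4, 4, 1, 3, 3, 1, 3, 1, 4, 1, 4], [3, 3, 2, 4, 4, 1, 4, 1, 4, 4, 1, 3, 3, 1, 4, 4, 1, 4]]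

def U : Tab := ⟨[n0, n1, n2], [⟨0, false, 0, 0, []⟩, ⟨0, false, 0, 0, []⟩, ⟨0, true, 0, 0, []⟩, ⟨1, false, 0, 0, []⟩, ⟨1, true, 0, 0, []⟩, ⟨2, false, 0, 0, []⟩, ⟨2, true, 0, 0, []⟩]⟩

end Cfsg.Agent.Spor.HNP.K
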